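import Cfsg.Agent.Lib.PGroup.Critical

/-
# Elements of small exponent in a critical subgroup detect automorphisms of order prime to p
-/

namespace Cfsg.Agent.FusionSmallControl

open Subgroup Cfsg.Agent
open scoped commutatorElement

/-- The exponent `p` for odd `p` and `4` for `p = 2`. -/
def qexp (p : ℕ) : ℕ := if p = 2 then 4 else p

theorem qexp_two : qexp 2 = 4 := rfl

theorem qexp_odd {p : ℕ} (h : p ≠ 2) : qexp p = p := if_neg h

theorem dvd_qexp (p : ℕ) : p ∣ qexp p := by
  unfold qexp
  split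
  · subst p; norm_num
  · exact dvd_rfl

theorem dvd_choose_qexp {p : ℕ} (hp : p.Prime) : p ∣ (qexp p).choose 2 := by
  unfold qexp
  split
  · subst p; decide
  · exact hp.dvd_choose_self (by norm_num) (lt_of_le_of_ne hp.two_le (Ne.symm ‹_›))

variable {G : Type*} [Group G] {p : ℕ} [hp : Fact p.Prime] {H : Subgroup G}

theorem mul_pow_qexp (hH : PGroup.Critical p H) {x y : G} (hx : x ∈ H) (hy : y ∈ H) :
    (x * y) ^ qexp p = x ^ qexp p * y ^ qexp p := by
  have hc := hH.comm_mem y hy x
  have hcx : Commute x ⁅y, x⁆ := Subgroup.mem_centralizer_iff.1 hc.2 x hx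
  have hcy : Commute y ⁅y, x⁆ := Subgroup.mem_centralizer_iff.1 hc.2 y hy
  have hcp : ⁅y, x⁆ ^ p = 1 := by
    rw [← PGroup.commutator_pow_left hcy, commutatorElement_eq_one_iff_commute]
    exact (Subgroup.mem_centralizer_iff.1 (hH.pow_mem y hy) x hx).symm
  obtain ⟨k, hk⟩ := dvd_choose_qexp (p := p) hp.out
  rw [PGroup.mul_pow_eq hcx hcy, hk, pow_mul, hcp, one_pow, one_mul]

/-- An automorphism of order prime to `p` fixing the elements of small exponent in the part of a critical
subgroup inside `N` is trivial if it moves every element inside its coset of `N`. -/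
theorem aut_eq_one_of_fix_small [Finite G] (hG : IsPGroup p G) {a : MulAut G}
    (ha : Nat.Coprime (orderOf a) p) (hH : PGroup.Critical p H) (N : Subgroup G)
    (hN : ∀ x, x⁻¹ * a x ∈ N) (h : ∀ x ∈ H, x ∈ N → x ^ qexp p = 1 → a x = x) : a = 1 := by
  haveI := hH.char
  have hHa : ∀ x ∈ H, a x ∈ H := fun x hx => (PGroup.aut_mem_iff a x).2 hx
  have key : ∀ k : ℕ, ∀ x ∈ H, x ∈ N → x ^ p ^ k = 1 → a x = x := by
    intro k
    induction k with
    | zero => intro x _ _ hx; rw [pow_zero, pow_one] at hx; rw [hx, map_one]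
    | succ k ih =>
      intro x hxH hxN hx
      refine PGroup.fixed_of_displacement_fixed hG ha
        (h _ (mul_mem (inv_mem hxH) (hHa x hxH)) (hN x) ?_)
      have h1 : a (x ^ qexp p) = x ^ qexp p := by
        refine ih _ (pow_mem hxH _) (pow_mem hxN _) ?_
        obtain ⟨c, hc⟩ := dvd_qexp p
        rw [← pow_mul, hc, mul_comm p c, mul_assoc, ← pow_succ', mul_comm, pow_mul, hx, one_pow]
      rw [mul_pow_qexp hH (inv_mem hxH) (hHa x hxH), inv_pow, ← map_pow, h1, inv_mul_cancel]
  refine PGroup.aut_eq_one_of_fix_selfCentralizing hG hH.self_centralizing ha fun x hx => ?_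
  refine PGroup.fixed_of_displacement_fixed hG ha ?_
  obtain ⟨k, hk⟩ := hG (x⁻¹ * a x)
  exact key k _ (mul_mem (inv_mem hx) (hHa x hx)) (hN x) hk

end Cfsg.Agent.FusionSmallControl
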