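import Cfsg.Agent.Lib.FusionSmallControl.Detect
import Cfsg.Agent.Lib.FusionInner.Basic
import Cfsg.Agent.Lib.FusionChain.Hyperfocal
import Cfsg.Agent.Lib.FusionChain.Puig
import Cfsg.Agent.Lib.Fusion.PAut
import Cfsg.Agent.Lib.FusionStable.Basic
import Cfsg.Agent.S5099
import Cfsg.Agent.S5124

/-
# Abelian subgroups of small exponent in the hyperfocal subgroup control fusion
-/

namespace Cfsg.Agent.FusionSmallControl

open Cfsg Cfsg.FusionSystem Cfsg.Agent Cfsg.Agent.Fusion Cfsg.Agent.FusionChain Cfsg.Agent.FusionSparse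
  Cfsg.Agent.FusionInner
open scoped commutatorElement

universe u

variable {Ω : Type u} [Group Ω] {S : Subgroup Ω} {E F : FusionSystem S} {p : ℕ}

/-- An abelian subgroup of small exponent. -/
structure Small (p : ℕ) (A : Subgroup Ω) : Prop where
  comm : ∀ a ∈ A, ∀ b ∈ A, a * b = b * a
  pow : ∀ a ∈ A, a ^ qexp p = 1

/-- The maps of `F` on small subgroups of the hyperfocal subgroup are maps of `E`. -/
def Agree (p : ℕ) (E F : FusionSystem S) : Prop :=
  ∀ A, A ≤ F.hyperfocalSubgroup p → Small p A → ∀ f, IsMap F A f →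
    (∀ x ∈ A, f x ∈ F.hyperfocalSubgroup p) → IsMap E A f

/-- Every map extends to one fixing `x`. -/
def Fixed (F : FusionSystem S) (x : Ω) : Prop :=
  ∀ P f, IsMap F P f → ∃ g, IsMap F (P ⊔ Subgroup.zpowers x) g ∧ (∀ y ∈ P, g y = f y) ∧ g x = x

/-- The graphs of the maps. -/
def graphs (F : FusionSystem S) : Set (Set (Ω × Ω)) :=
  {G | ∃ P f, IsMap F P f ∧ G = (fun x => (x, f x)) '' (P : Set Ω)}

theorem graphs_finite [Finite S] (F : FusionSystem S) : (graphs F).Finite := by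
  refine Set.Finite.subset (((Set.toFinite (S : Set Ω)).prod (Set.toFinite (S : Set Ω))).finite_subsets) ?_
  rintro G ⟨P, f, hf, rfl⟩
  rintro _ ⟨x, hx, rfl⟩
  exact ⟨hf.le hx, hf.mem hx⟩

/-- Recognition of a member of the graph family. -/
theorem isMap_of_graph {T : Subgroup Ω} {D : FusionSystem T} {P : Subgroup Ω} {f : Ω → Ω}
    (h : (fun x => (x, f x)) '' (P : Set Ω) ∈ graphs D) : IsMap D P f := by
  obtain ⟨P', f', hf', hG⟩ := h
  obtain rfl : P = P' := by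
    apply SetLike.coe_injective
    have := congrArg (Set.image Prod.fst) hG
    simpa [Set.image_image] using this
  refine hf'.congr fun x hx => ?_
  obtain ⟨y, -, hy⟩ : (x, f x) ∈ (fun x => (x, f' x)) '' (P : Set Ω) :=
    hG ▸ Set.mem_image_of_mem _ hx
  obtain ⟨rfl, hy2⟩ := Prod.mk.injEq .. ▸ hy
  exact hy2

theorem small_img {A P : Subgroup Ω} {f : Ω → Ω} (hA : Small p A) (hf : IsMap F P f) (hle : A ≤ P) :
    Small p (img f A) where
  comm := by
    intro a ha b hb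
    obtain ⟨x, hx, rfl⟩ := (hf.mem_img_iff hle).1 ha
    obtain ⟨y, hy, rfl⟩ := (hf.mem_img_iff hle).1 hb
    rw [← hf.map_mul (hle hx) (hle hy), ← hf.map_mul (hle hy) (hle hx), hA.comm x hx y hy]
  pow := by
    intro a ha
    obtain ⟨x, hx, rfl⟩ := (hf.mem_img_iff hle).1 ha
    have key : ∀ n : ℕ, f (x ^ n) = f x ^ n := by
      intro n
      induction n with
      | zero => rw [pow_zero, pow_zero, hf.map_one]
      | succ k ih => rw [pow_succ, pow_succ, hf.map_mul (P.pow_mem (hle hx) k) (hle hx), ih]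
    rw [← key, hA.pow x hx, hf.map_one]

theorem small_sup {A B : Subgroup Ω} (hA : Small p A) (hB : Small p B)
    (h : ∀ a ∈ A, ∀ b ∈ B, a * b = b * a) : Small p (A ⊔ B) := by
  have hn : A ≤ Subgroup.normalizer (B : Set Ω) := fun a ha => Subgroup.mem_normalizer_iff.2 fun b =>
    ⟨fun hb => by rwa [h a ha b hb, mul_inv_cancel_right], fun hb => by
      have h1 := h a⁻¹ (A.inv_mem ha) _ hb
      have : b = a * b * a⁻¹ := by
        calc b = a⁻¹ * (a * b * a⁻¹) * a := by group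
          _ = a * b * a⁻¹ := by rw [h1]; group
      rwa [this]⟩
  have hmem : ∀ z ∈ A ⊔ B, ∃ a ∈ A, ∃ b ∈ B, a * b = z := fun z hz => by
    rw [← SetLike.mem_coe, Subgroup.coe_mul_of_left_le_normalizer_right _ _ hn] at hz
    obtain ⟨a, ha, b, hb, rfl⟩ := hz
    exact ⟨a, ha, b, hb, rfl⟩
  constructor
  · intro x hx y hy
    obtain ⟨a, ha, b, hb, rfl⟩ := hmem x hx
    obtain ⟨c, hc, d, hd, rfl⟩ := hmem y hy
    have e : Commute (a * b) (c * d) :=
      ((show Commute a c from hA.comm a ha c hc).mul_right (show Commute a d from h a ha d hd)).mul_left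
        ((show Commute c b from h c hc b hb).symm.mul_right (show Commute b d from hB.comm b hb d hd))
    exact e
  · intro x hx
    obtain ⟨a, ha, b, hb, rfl⟩ := hmem x hx
    rw [(show Commute a b from h a ha b hb).mul_pow, hA.pow a ha, hB.pow b hb, one_mul]

theorem isMap_of_sub (hEF : E.IsSubsystemOf F) {P : Subgroup Ω} {f : Ω → Ω} (hf : IsMap E P f) :
    IsMap F P f :=
  let ⟨φ, hφ, e⟩ := hf
  ⟨φ, hEF P hφ, e⟩

/-- A subgroup with the p-part of the automizer in the image is fully `K`-normalized. -/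
theorem isFullyK_of_le [Finite S] [Fact p.Prime] (hS : IsPGroup p S) {A : Subgroup Ω}
    (hR : F.IsReceptive A) {K : Subgroup (MulAut A)} (hK : K ≤ autInducedBy S A) :
    IsFullyK F A K := by
  refine ⟨hR.1, fun R f h => ?_⟩
  obtain ⟨g, hg, hgf, -⟩ := h.symm
  have hsyl : IsSylowIn p (autInducedBy S A ⊓ K) (F.autGroup A ⊓ K) := by
    rw [inf_eq_right.2 hK, inf_eq_right.2 (hK.trans (autInducedBy_le_autGroup F le_rfl hR.1))]
    exact ⟨le_rfl, (isPGroup_autInducedBy hS).to_le hK, fun C h1 h2 _ => le_antisymm h2 h1⟩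
  have hL : ∀ β ∈ transK h K, MulAut.congr hg.equiv β ∈ K := by
    rintro _ ⟨α, hα, rfl⟩
    have he : MulAut.congr hg.equiv (MulAut.congr h.equiv α) = α := by
      refine MulEquiv.ext fun y => Subtype.ext ?_
      have hy : hg.equiv (h.equiv y) = y := Subtype.ext (hgf _ y.2)
      conv_lhs => rw [← hy]
      rw [congr_apply_coe, congr_apply_coe, hgf _ (α y).2]
    rw [MulEquiv.coe_toMonoidHom, he]
    exact hα
  obtain ⟨χ, hχ, f', hf', e⟩ := exists_KExtension hS hR hsyl hg (transK h K) hL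
  have hR' : R ≤ R ⊔ NK S R (transK h K) := le_sup_left
  have himg : img f' R = A := by
    rw [img_congr e]
    exact (hg.trans (isIso_autFn hR.1 hχ.1)).2
  have hle : NK S R (transK h K) ≤ R ⊔ NK S R (transK h K) := le_sup_right
  rw [← hf'.card_img hle]
  have := finite_of_le (NK_le S A K)
  refine Subgroup.card_le_of_le (hf'.img_le hle fun y hy => ?_)
  refine map_NK hf' hR' himg (fun β hβ => ⟨χ * MulAut.congr hg.equiv β * χ⁻¹,
    mul_mem (mul_mem hχ.2 (hL β hβ)) (inv_mem hχ.2), fun x hx => ?_⟩) (hle hy) hy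
  have e1 : (⟨f' x, hx⟩ : A) = χ (hg.equiv x) := Subtype.ext (by
    show f' x = _
    rw [e x x.2, autFn_apply χ (hg.mem x.2)]
    rfl)
  rw [e1, MulAut.mul_apply, MulAut.mul_apply, MulAut.inv_apply_self, e (β x) (β x).2,
    autFn_apply χ (hg.mem (β x).2)]
  exact congrArg (fun y : A => ((χ y : A) : Ω)) (Subtype.ext (congr_apply_coe hg β x))

/-- A nontrivial kernel of a restriction forces more room, or self-centralizing images. -/
theorem centralizer_le_of_kernel [Finite S] [Fact p.Prime] (hS : IsPGroup p S) {A X Y : Subgroup Ω} {h : Ω → Ω}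
    (hXS : X ≤ S) (hc : F.IsCentric X) (hAX : A ≤ X) (hAc : ∀ a ∈ A, ∀ b ∈ A, a * b = b * a)
    (hXA : X ≤ normalizerIn S A) (hh : IsIso F X Y h)
    (hK0 : ∀ γ ∈ F.autGroup X, (∀ x ∈ centralizerIn X A, autFn γ x = x) →
      (∀ x ∈ X, x⁻¹ * autFn γ x ∈ centralizerIn X A) → ∃ z ∈ X, ∀ x ∈ X, autFn γ x = z * x * z⁻¹) :
    centralizerIn S (img h (centralizerIn X A)) ≤ Y := by
  have hYS := hh.le_right
  have hX0 : centralizerIn X A ≤ X := inf_le_left
  have hY0 : img h (centralizerIn X A) ≤ Y := hh.1.img_le hX0 fun x hx => hh.mem (hX0 hx)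
  have hA0 : A ≤ centralizerIn X A := fun a ha =>
    mem_centralizerIn.2 ⟨hAX ha, fun b hb => hAc a ha b hb⟩
  have := finite_of_le hXS
  have := finite_of_le hYS
  -- `Y` normalizes the centralizer
  have hnorm : ∀ y ∈ Y, ∀ c ∈ img h (centralizerIn X A), y * c * y⁻¹ ∈ img h (centralizerIn X A) := by
    intro y hy c hc
    obtain ⟨x, hx, rfl⟩ := hh.exists_eq hy
    obtain ⟨z, hz, rfl⟩ := (hh.1.mem_img_iff hX0).1 hc
    rw [← hh.1.map_conj hx (hX0 hz)]
    refine (hh.1.mem_img_iff hX0).2 ⟨_, mem_centralizerIn.2 ⟨X.mul_mem (X.mul_mem hx (hX0 hz)) (X.inv_mem hx),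
      fun a ha => ?_⟩, rfl⟩
    have h1 := normalizerIn_conj_inv (hXA hx) ha
    have h2 := (mem_centralizerIn.1 hz).2 _ h1
    calc x * z * x⁻¹ * a = x * (z * (x⁻¹ * a * x)) * x⁻¹ := by group
      _ = x * ((x⁻¹ * a * x) * z) * x⁻¹ := by rw [h2]
      _ = a * (x * z * x⁻¹) := by group
  set C := centralizerIn S (img h (centralizerIn X A)) with hC
  have hCn : Y ≤ Subgroup.normalizer (C : Set Ω) := by
    intro y hy
    have hkey : ∀ w ∈ Y, ∀ c ∈ C, w * c * w⁻¹ ∈ C := by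
      intro w hw c hc
      refine mem_centralizerIn.2 ⟨S.mul_mem (S.mul_mem (hYS hw) hc.1) (S.inv_mem (hYS hw)), fun a ha => ?_⟩
      have h2 := (mem_centralizerIn.1 hc).2 _ (hnorm _ (Y.inv_mem hw) a ha)
      rw [inv_inv] at h2
      calc w * c * w⁻¹ * a = w * (c * (w⁻¹ * a * w)) * w⁻¹ := by group
        _ = w * ((w⁻¹ * a * w) * c) * w⁻¹ := by rw [h2]
        _ = a * (w * c * w⁻¹) := by group
    refine Subgroup.mem_normalizer_iff.2 fun c => ⟨hkey y hy c, fun hc => ?_⟩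
    have := hkey y⁻¹ (Y.inv_mem hy) _ hc
    simpa [mul_assoc] using this
  have hsup : Y ⊔ C ≤ S := sup_le hYS inf_le_left
  by_contra hCY
  have hlt : Y < Y ⊔ C := lt_of_le_of_ne le_sup_left fun he => hCY (he ▸ le_sup_right)
  obtain ⟨w, hw, hwY⟩ := SetLike.exists_of_lt (lt_normalizerIn hS hsup hlt)
  have hwS : w ∈ Y ⊔ C := hw.1
  rw [← SetLike.mem_coe, Subgroup.coe_mul_of_left_le_normalizer_right _ _ hCn] at hwS
  obtain ⟨y, hy, c, hc', rfl⟩ := hwS
  have hcN : c ∈ normalizerIn S Y := by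
    refine mem_normalizerIn_of_conj hc'.1 fun b hb => ?_
    have h1 := normalizerIn_conj (show y * c ∈ normalizerIn S Y from ⟨hsup hw.1, hw.2⟩) hb
    have h2 := Y.mul_mem (Y.mul_mem (Y.inv_mem hy) h1) hy
    convert h2 using 1
    group
  -- the automorphism of `X`
  obtain ⟨g, hg, hgh, hhg⟩ := hh.symm
  have hconj := IsMap.conj (F := F) hYS hc'.1
  have hm : IsMap F X (fun x => g (c * h x * c⁻¹)) :=
    (hh.1.comp hconj fun x hx => hh.mem hx).comp hg.1 fun x hx => normalizerIn_conj hcN (hh.mem hx)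
  obtain ⟨γ, hγ, eγ⟩ := exists_aut_of_isIso (F := F) (⟨hm, eq_of_le_of_card hXS
    (hm.img_le le_rfl fun x hx => hg.mem (normalizerIn_conj hcN (hh.mem hx))) (hm.card_img le_rfl).ge⟩ :
      IsIso F X X _)
  have eγ' : ∀ x ∈ X, autFn γ x = g (c * h x * c⁻¹) := fun x hx =>
    (autFn_apply γ hx).trans (eγ ⟨x, hx⟩)
  have hfix : ∀ x ∈ centralizerIn X A, autFn γ x = x := fun x hx => by
    rw [eγ' x (hX0 hx), (mem_centralizerIn.1 hc').2 (h x) (hh.1.mem_img hx), mul_inv_cancel_right,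
      hgh x (hX0 hx)]
  obtain ⟨z, hz, ez⟩ := hK0 γ hγ hfix fun x hx => by
    refine mem_centralizerIn.2 ⟨X.mul_mem (X.inv_mem hx) (autFn_mem γ hx), fun a ha => ?_⟩
    have h1 : autFn γ (x * a * x⁻¹) = x * a * x⁻¹ :=
      hfix _ (hA0 (normalizerIn_conj (hXA hx) ha))
    have hm' := (isIso_autFn hXS hγ).1
    rw [hm'.map_conj hx (hAX ha), hfix a (hA0 ha)] at h1
    calc x⁻¹ * autFn γ x * a = x⁻¹ * (autFn γ x * a * (autFn γ x)⁻¹) * autFn γ x := by group
      _ = x⁻¹ * (x * a * x⁻¹) * autFn γ x := by rw [h1]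
      _ = a * (x⁻¹ * autFn γ x) := by group
  have hcz : c ∈ Y := by
    have hmem : (h z)⁻¹ * c ∈ centralizerIn S Y := by
      refine mem_centralizerIn.2 ⟨S.mul_mem (S.inv_mem (hh.1.mem hz)) hc'.1, fun b hb => ?_⟩
      obtain ⟨x, hx, rfl⟩ := hh.exists_eq hb
      have h1 : c * h x * c⁻¹ = h z * h x * (h z)⁻¹ := by
        rw [← hhg _ (normalizerIn_conj hcN (hh.mem hx)), ← eγ' x hx, ez x hx, hh.1.map_conj hz hx]
      calc (h z)⁻¹ * c * h x = (h z)⁻¹ * (c * h x * c⁻¹) * c := by group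
        _ = (h z)⁻¹ * (h z * h x * (h z)⁻¹) * c := by rw [h1]
        _ = h x * ((h z)⁻¹ * c) := by group
    have h3 := hc.2 Y (isConj_iff.2 ⟨h, hh⟩) hmem
    have := Y.mul_mem (hh.mem hz) h3
    rwa [mul_inv_cancel_left] at this
  exact hwY (Y.mul_mem hy hcz)

/-- The key step: an automorphism inside the fusion of a normal small subgroup. -/
theorem isMap_aut_step [Finite S] [Fact p.Prime] (hS : IsPGroup p S) (hE : E.IsSaturated p)
    (hF : F.IsSaturated p) (hEF : E.IsSubsystemOf F) {A : Subgroup Ω} {K : Subgroup (MulAut A)}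
    (hK : IsFullyK F A K) (hKA : IsMulCommutative A) {X : Subgroup Ω}
    (hAX : A ≤ X) (hXM : X ≤ NK S A K)
    (hXfn : (kSys F A K hK.1).IsFullyNormalized X) (hc : F.IsCentric X)
    (big : ∀ P f, IsMap F P f → Nat.card X < Nat.card P → IsMap E P f)
    (hC : ∀ P f, IsMap F P f → (∃ f', IsMap F (P ⊔ A) f' ∧ (∀ x ∈ P, f' x = f x) ∧ ∀ a ∈ A, f' a = a) →
      P ≤ centralizerIn S A → IsMap E P f)
    {γ : MulAut X} (hγ : γ ∈ F.autGroup X) (hfix : ∀ a ∈ A, autFn γ a = a) :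
    IsMap E X (autFn γ) := by
  have hAc : ∀ a ∈ A, ∀ b ∈ A, a * b = b * a := fun a ha b hb =>
    congrArg Subtype.val (mul_comm' (⟨a, ha⟩ : A) ⟨b, hb⟩)
  have hXS : X ≤ S := hXM.trans (NK_le S A K)
  have hXA : X ≤ normalizerIn S A := hXM.trans (NK_le_normalizerIn S A K)
  have hX0 : centralizerIn X A ≤ X := inf_le_left
  have hsat := isSaturated_kSys hS hF hK
  set F' := kSys F A K hK.1 with hF'
  have hMp : IsPGroup p (NK S A K) := hS.to_le (NK_le S A K)
  have := finite_of_le (NK_le S A K)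
  have := finite_of_le hXS
  have := finite_mulAut hXS
  have hinv : ∀ α ∈ F'.autGroup X, ∀ a ∈ A, autFn α a ∈ A := by
    intro α hα a ha
    obtain ⟨-, -, f', hf', e, hon⟩ := isMap_kSys.1 ((mem_autGroup_iff hXM).1 hα)
    rw [← e a (hAX ha)]
    exact hon.mem ha
  have hinv0 : ∀ α ∈ F'.autGroup X, ∀ x ∈ centralizerIn X A, autFn α x ∈ centralizerIn X A := by
    intro α hα x hx
    refine mem_centralizerIn.2 ⟨autFn_mem α (hX0 hx), fun a ha => ?_⟩
    have hsur : ∃ b ∈ A, autFn α b = a := by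
      refine ⟨autFn α⁻¹ a, hinv _ (inv_mem hα) a ha, ?_⟩
      rw [← autFn_mul_comp _ _ (hAX ha), mul_inv_cancel, autFn_one (hAX ha)]
    obtain ⟨b, hb, rfl⟩ := hsur
    have hm := (isIso_autFn hXM hα).1
    rw [← hm.map_mul (hX0 hx) (hAX hb), ← hm.map_mul (hAX hb) (hX0 hx), (mem_centralizerIn.1 hx).2 b hb]
  -- the kernel
  let K0 : Subgroup (MulAut X) :=
    { carrier := {a | a ∈ F'.autGroup X ∧ (∀ x ∈ centralizerIn X A, autFn a x = x) ∧
        ∀ x ∈ X, x⁻¹ * autFn a x ∈ centralizerIn X A}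
      one_mem' := ⟨one_mem _, fun x hx => autFn_one (hX0 hx), fun x hx => by
        rw [autFn_one hx, inv_mul_cancel]; exact one_mem _⟩
      mul_mem' := by
        rintro a b ⟨ha, ha1, ha2⟩ ⟨hb, hb1, hb2⟩
        refine ⟨mul_mem ha hb, fun x hx => by rw [autFn_mul_comp _ _ (hX0 hx), hb1 x hx, ha1 x hx],
          fun x hx => ?_⟩
        rw [autFn_mul_comp _ _ hx]
        have h1 := mul_mem (hb2 x hx) (ha2 _ (autFn_mem b hx))
        rwa [mul_assoc, mul_inv_cancel_left] at h1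
      inv_mem' := by
        rintro a ⟨ha, ha1, ha2⟩
        refine ⟨inv_mem ha, fun x hx => ?_, fun x hx => ?_⟩
        · conv_lhs => rw [← ha1 x hx]
          rw [← autFn_mul_comp _ _ (hX0 hx), inv_mul_cancel, autFn_one (hX0 hx)]
        · have h1 := ha2 _ (autFn_mem a⁻¹ hx)
          rw [← autFn_mul_comp _ _ hx, mul_inv_cancel, autFn_one hx] at h1
          have h2 := inv_mem h1
          rwa [mul_inv_rev, inv_inv] at h2 }
  have hK0p : IsPGroup p K0 := isPGroup_of_coprime_trivial fun g hg => by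
    refine Subtype.ext (eq_one_of_autFn fun x hx => ?_)
    have h1 : (g : MulAut X) ⟨x, hx⟩ = ⟨x, hx⟩ := by
      refine eq_self_of_stab (hS.to_le hXS) (g : MulAut X) (by rwa [Subgroup.orderOf_coe])
        ((centralizerIn X A).subgroupOf X) (fun u hu => Subtype.ext ?_) _ ?_
      · have := g.2.2.1 u hu
        rwa [autFn_apply _ u.2] at this
      · have := g.2.2.2 x hx
        rw [autFn_apply _ hx] at this
        exact Subgroup.mem_subgroupOf.2 this
    exact (autFn_apply _ hx).trans (congrArg Subtype.val h1)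
  have hK0n : ∀ α ∈ F'.autGroup X, ∀ k ∈ K0, α * k * α⁻¹ ∈ K0 := by
    rintro α hα k ⟨hk, hk1, hk2⟩
    refine ⟨mul_mem (mul_mem hα hk) (inv_mem hα), fun x hx => ?_, fun x hx => ?_⟩
    · rw [autFn_mul_comp _ _ (hX0 hx), autFn_mul_comp _ _ (autFn_mem _ (hX0 hx)),
        hk1 _ (hinv0 _ (inv_mem hα) x hx), ← autFn_mul_comp _ _ (hX0 hx), mul_inv_cancel,
        autFn_one (hX0 hx)]
    · obtain ⟨w, hw, rfl⟩ : ∃ w ∈ X, autFn α w = x := ⟨autFn α⁻¹ x, autFn_mem _ hx, by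
        rw [← autFn_mul_comp _ _ hx, mul_inv_cancel, autFn_one hx]⟩
      rw [autFn_mul_comp _ _ hx, autFn_mul_comp _ _ (autFn_mem _ hx), ← autFn_mul_comp α⁻¹ α hw,
        inv_mul_cancel, autFn_one hw]
      have hm := (isIso_autFn hXM hα).1
      rw [← hm.map_inv hw, ← hm.map_mul (X.inv_mem hw) (autFn_mem k hw)]
      exact hinv0 α hα _ (hk2 w hw)
  have hK0T : K0 ≤ autInducedBy (NK S A K) X := by
    obtain ⟨-, hsyl⟩ := isFullyAutomized_iff.1 (fullyAutomized_of_fullyNormalized hMp hsat hXfn)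
    intro k hk
    have h1 : ∀ a ∈ F'.autGroup X, ∀ k ∈ K0, a * k * a⁻¹ ∈ K0 := hK0n
    obtain ⟨a, ha, hconj⟩ := hsyl.exists_conj_le hK0p fun k hk => hk.1
    have h2 := hconj _ (h1 a⁻¹ (inv_mem ha) k hk)
    simpa [mul_assoc] using h2
  -- membership of the kernel
  have hK0F : ∀ γ ∈ F.autGroup X, (∀ x ∈ centralizerIn X A, autFn γ x = x) →
      (∀ x ∈ X, x⁻¹ * autFn γ x ∈ centralizerIn X A) → γ ∈ K0 := by
    intro γ' hγ' h1 h2
    refine ⟨(mem_autGroup_iff hXM).2 (isMap_kSys.2 ⟨hXM, fun x hx => hXM (autFn_mem γ' hx),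
      autFn γ', by rw [sup_eq_left.2 hAX]; exact (isIso_autFn hXS hγ').1, fun _ _ => rfl,
      1, one_mem _, fun a => (h1 a (mem_centralizerIn.2 ⟨hAX a.2, fun b hb => hAc a a.2 b hb⟩)).symm⟩), h1, h2⟩
  have hγF' : γ ∈ F'.autGroup X := (mem_autGroup_iff hXM).2 (isMap_kSys.2 ⟨hXM,
    fun x hx => hXM (autFn_mem γ hx), autFn γ, by rw [sup_eq_left.2 hAX]; exact (isIso_autFn hXS hγ).1,
    fun _ _ => rfl, 1, one_mem _, fun a => (hfix a a.2).symm⟩)
  by_cases hroom : NK (NK S A K) X K0 ≤ X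
  swap
  · obtain ⟨f, hf, hfe, -⟩ := exists_extension_NK (receptive_of_fullyNormalized hMp hsat hXfn) hγF' K0
      fun k hk => ⟨hK0T (hK0n _ hγF' k hk.2), hK0n _ hγF' k hk.2⟩
    obtain ⟨-, -, f', hf', e, -⟩ := isMap_kSys.1 hf
    have hf'' := hf'.mono (le_sup_left : X ⊔ NK (NK S A K) X K0 ≤ _)
    have hlt : Nat.card X < Nat.card ↥(X ⊔ NK (NK S A K) X K0) := by
      have hle : X ⊔ NK (NK S A K) X K0 ≤ S := hf''.le
      have := finite_of_le hle
      refine lt_of_le_of_ne (Subgroup.card_le_of_le le_sup_left) fun he => hroom ?_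
      exact le_sup_right.trans (eq_of_le_of_card hle le_sup_left he.ge).ge
    exact ((big _ _ hf'' hlt).mono le_sup_left).congr fun x hx => by
      rw [e x (Subgroup.mem_sup_left hx), hfe x hx]
  have hK0z : ∀ γ ∈ F.autGroup X, (∀ x ∈ centralizerIn X A, autFn γ x = x) →
      (∀ x ∈ X, x⁻¹ * autFn γ x ∈ centralizerIn X A) →
      ∃ z ∈ X, ∀ x ∈ X, autFn γ x = z * x * z⁻¹ := by
    intro γ' hγ' h1 h2
    have hk := hK0F γ' hγ' h1 h2
    obtain ⟨z, hz, ez⟩ := mem_autInducedBy_iff.1 (hK0T hk)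
    exact ⟨z, hroom (mem_NK.2 ⟨hz, γ', hk, ez⟩), fun x hx => (autFn_apply γ' hx).trans (ez ⟨x, hx⟩)⟩
  -- the restriction to the centralizer
  have hγ0 : IsMap E (centralizerIn X A) (autFn γ) :=
    hC _ _ ((isIso_autFn hXS hγ).1.mono hX0) ⟨autFn γ, (isIso_autFn hXS hγ).1.mono (sup_le hX0 hAX),
      fun _ _ => rfl, hfix⟩ fun x hx => ⟨hXS hx.1, hx.2⟩
  obtain ⟨Z, ω, hZ, hω, hωimg, hωN⟩ := exists_fullyNormalized_map hS hE (hX0.trans hXS)
  have hXN : X ≤ normalizerIn S (centralizerIn X A) := by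
    intro x hx
    have := finite_of_le (hX0.trans hXS)
    refine mem_normalizerIn_of_conj (hXS hx) fun z hz => mem_centralizerIn.2
      ⟨X.mul_mem (X.mul_mem hx (hX0 hz)) (X.inv_mem hx), fun a ha => ?_⟩
    have h2 := (mem_centralizerIn.1 hz).2 _ (normalizerIn_conj_inv (hXA hx) ha)
    calc x * z * x⁻¹ * a = x * (z * (x⁻¹ * a * x)) * x⁻¹ := by group
      _ = x * ((x⁻¹ * a * x) * z) * x⁻¹ := by rw [h2]
      _ = a * (x * z * x⁻¹) := by group
  have hωX := hω.mono hXN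
  have hh : IsIso F X (img ω X) ω := (isMap_of_sub hEF hωX).isIso
  have hCY : centralizerIn S Z ≤ img ω X := by
    have := centralizer_le_of_kernel hS hXS hc hAX hAc hXA hh hK0z
    rwa [hωimg] at this
  have hg : IsIso E (centralizerIn X A) Z (fun x => ω (autFn γ x)) := by
    have hm := hγ0.comp (hωX.mono hX0) fun x hx => hinv0 γ hγF' x hx
    have hle := finite_of_le hZ.1
    refine ⟨hm, eq_of_le_of_card hZ.1 (hm.img_le le_rfl fun x hx => hωimg ▸ ?_) ?_⟩
    · exact (hωX.mem_img_iff hX0).2 ⟨_, hinv0 γ hγF' x hx, rfl⟩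
    · rw [hm.card_img le_rfl, ← hωimg, hωX.card_img hX0]
  obtain ⟨χ, hχ, hχe⟩ := (isReceptive_iff.1 (receptive_of_fullyNormalized hS hE hZ)).2 _ _ hg
  have hXNx : X ≤ Nx S (centralizerIn X A) (fun x => ω (autFn γ x)) := fun x hx =>
    mem_Nx.2 ⟨hXN hx, ω (autFn γ x), hωX.mem (autFn_mem γ hx), fun w hw => by
      show ω (autFn γ (x * w * x⁻¹)) = ω (autFn γ x) * ω (autFn γ w) * (ω (autFn γ x))⁻¹
      rw [(isIso_autFn hXS hγ).1.map_conj hx (hX0 hw),
        hωX.map_conj (autFn_mem γ hx) (autFn_mem γ (hX0 hw))]⟩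
  have hχX := hχ.mono hXNx
  have hdiff : ∀ x ∈ X, (ω (autFn γ x))⁻¹ * χ x ∈ img ω X := by
    intro x hx
    refine hCY (mem_centralizerIn.2 ⟨S.mul_mem (S.inv_mem (hωX.mem (autFn_mem γ hx))) (hχX.mem hx),
      fun b hb => ?_⟩)
    obtain ⟨w, hw, rfl⟩ := hg.exists_eq hb
    have h1 := hχe _ (show x * w * x⁻¹ ∈ centralizerIn X A from normalizerIn_conj (hXN hx) hw)
    rw [hχX.map_conj hx (hX0 hw), hχe w hw, (isIso_autFn hXS hγ).1.map_conj hx (hX0 hw),
      hωX.map_conj (autFn_mem γ hx) (autFn_mem γ (hX0 hw))] at h1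
    calc (ω (autFn γ x))⁻¹ * χ x * ω (autFn γ w)
        = (ω (autFn γ x))⁻¹ * (χ x * ω (autFn γ w) * (χ x)⁻¹) * χ x := by group
      _ = (ω (autFn γ x))⁻¹ * (ω (autFn γ x) * ω (autFn γ w) * (ω (autFn γ x))⁻¹) * χ x := by rw [h1]
      _ = ω (autFn γ w) * ((ω (autFn γ x))⁻¹ * χ x) := by group
  have hχimg : ∀ x ∈ X, χ x ∈ img ω X := fun x hx => by
    have := (img ω X).mul_mem (hωX.mem_img (autFn_mem γ hx)) (hdiff x hx)
    rwa [mul_inv_cancel_left] at this
  obtain ⟨ω', hω', hω'l, hω'r⟩ := hωX.isIso.symm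
  have hemap : IsMap E X (fun x => ω' (χ x)) := hχX.comp hω'.1 hχimg
  obtain ⟨ε, hε, eε⟩ := exists_aut_of_isIso (F := E) (⟨hemap, eq_of_le_of_card hXS
    (hemap.img_le le_rfl fun x hx => hω'.mem (hχimg x hx)) (hemap.card_img le_rfl).ge⟩ : IsIso E X X _)
  have hεF : ε ∈ F.autGroup X :=
    (mem_autGroup_iff hXS).2 (isMap_of_sub hEF ((mem_autGroup_iff hXS).1 hε))
  have hagree : ∀ x ∈ centralizerIn X A, autFn (ε⁻¹ * γ) x = x := fun x hx => by
    rw [autFn_mul_comp _ _ (hX0 hx)]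
    have h1 : autFn ε x = autFn γ x := by
      rw [autFn_apply ε (hX0 hx), eε ⟨x, hX0 hx⟩]
      show ω' (χ x) = _
      rw [hχe x hx, hω'l _ (autFn_mem γ (hX0 hx))]
    rw [← h1, ← autFn_mul_comp _ _ (hX0 hx), inv_mul_cancel, autFn_one (hX0 hx)]
  obtain ⟨z, hz, ez⟩ := hK0z (ε⁻¹ * γ) (mul_mem (inv_mem hεF) hγ) hagree fun x hx => by
    refine mem_centralizerIn.2 ⟨X.mul_mem (X.inv_mem hx) (autFn_mem _ hx), fun a ha => ?_⟩
    have hA0 : ∀ b ∈ A, b ∈ centralizerIn X A := fun b hb =>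
      mem_centralizerIn.2 ⟨hAX hb, fun c hc => hAc b hb c hc⟩
    have h1 := hagree _ (hA0 _ (normalizerIn_conj (hXA hx) ha))
    have hm' := (isIso_autFn hXS (mul_mem (inv_mem hεF) hγ)).1
    rw [hm'.map_conj hx (hAX ha), hagree a (hA0 a ha)] at h1
    calc x⁻¹ * autFn (ε⁻¹ * γ) x * a
        = x⁻¹ * (autFn (ε⁻¹ * γ) x * a * (autFn (ε⁻¹ * γ) x)⁻¹) * autFn (ε⁻¹ * γ) x := by group
      _ = x⁻¹ * (x * a * x⁻¹) * autFn (ε⁻¹ * γ) x := by rw [h1]
      _ = a * (x⁻¹ * autFn (ε⁻¹ * γ) x) := by group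
  have hεz : IsMap E X (fun x => autFn ε (z * x * z⁻¹)) :=
    (IsMap.conj hXS (hXS hz)).comp ((mem_autGroup_iff hXS).1 hε)
      fun x hx => X.mul_mem (X.mul_mem hz hx) (X.inv_mem hz)
  refine hεz.congr fun x hx => ?_
  rw [← ez x hx, ← autFn_mul_comp _ _ hx, mul_inv_cancel_left]

/-- Maps fixing a fully normalized small subgroup agree. -/
theorem isMap_fix_step [Finite S] [Fact p.Prime] (hS : IsPGroup p S) (hE : E.IsSaturated p)
    (hF : F.IsSaturated p) (hEF : E.IsSubsystemOf F) {A : Subgroup Ω} (hA : F.IsFullyNormalized A)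
    (hKA : IsMulCommutative A) {n : ℕ}
    (big : ∀ P f, IsMap F P f → n < Nat.card P → IsMap E P f)
    (hC : ∀ P f, IsMap F P f → (∃ f', IsMap F (P ⊔ A) f' ∧ (∀ x ∈ P, f' x = f x) ∧ ∀ a ∈ A, f' a = a) →
      P ≤ centralizerIn S A → IsMap E P f)
    {X₁ X₂ : Subgroup Ω} {δ : Ω → Ω} (hAX : A ≤ X₁) (hX : X₁ ≤ normalizerIn S A)
    (hn : Nat.card X₁ = n) (hc : F.IsCentric X₁) (hδ : IsIso F X₁ X₂ δ) (hfix : ∀ a ∈ A, δ a = a) :
    IsMap E X₁ δ := by
  have hAS : A ≤ S := hA.1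
  let K : Subgroup (MulAut A) := autInducedBy X₁ A
  have hKS : K ≤ autInducedBy S A := autInducedBy_le_of_le hδ.le_left
  have hK : IsFullyK F A K := isFullyK_of_le hS (receptive_of_fullyNormalized hS hF hA) hKS
  have hsat := isSaturated_kSys hS hF hK
  set F' := kSys F A K hK.1 with hF'
  have := finite_of_le hAS
  have hMp : IsPGroup p (NK S A K) := hS.to_le (NK_le S A K)
  have hMfin := finite_of_le (NK_le S A K)
  have hX1M : X₁ ≤ NK S A K := fun x hx => mem_NK.2 ⟨hδ.le_left hx, normConj S A ⟨x, hX hx⟩,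
    mem_autInducedBy_iff.2 ⟨x, hx, fun _ => rfl⟩, fun _ => rfl⟩
  have hAX2 : A ≤ X₂ := fun a ha => hfix a ha ▸ hδ.mem (hAX ha)
  have hX2M : X₂ ≤ NK S A K := by
    intro y hy
    obtain ⟨x, hx, rfl⟩ := hδ.exists_eq hy
    refine mem_NK.2 ⟨hδ.1.mem hx, normConj S A ⟨x, hX hx⟩, mem_autInducedBy_iff.2 ⟨x, hx, fun _ => rfl⟩,
      fun a => ?_⟩
    rw [normConj_apply]
    have h1 := hδ.1.map_conj hx (hAX a.2)
    rw [hfix _ (normalizerIn_conj (hX hx) a.2), hfix a a.2] at h1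
    exact h1
  have hδ' : IsIso F' X₁ X₂ δ := by
    refine ⟨isMap_kSys.2 ⟨hX1M, fun x hx => hX2M (hδ.mem hx), δ, by rw [sup_eq_left.2 hAX]; exact hδ.1,
      fun _ _ => rfl, 1, one_mem _, fun a => (hfix a a.2).symm⟩, hδ.2⟩
  obtain ⟨X, hconj, hXfn⟩ :=
    FusionStable.exists_fullyNormalized_conj F' (hδ'.le_left)
  have hAX' : A ≤ X := by
    obtain ⟨f, hf⟩ := isConj_iff.1 hconj
    obtain ⟨-, -, f', hf', e, hon⟩ := isMap_kSys.1 hf.1
    intro a ha
    obtain ⟨b, hb, rfl⟩ := hon.exists_eq ha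
    rw [e b (hAX hb)]
    exact hf.mem (hAX hb)
  have hXcard : Nat.card X = n := by
    obtain ⟨f, hf⟩ := isConj_iff.1 hconj
    rw [hf.card_eq, hn]
  -- maps onto the fully normalized representative are maps of `E`
  have hto : ∀ Y, F'.IsConj Y X → A ≤ Y → ∃ ρ, IsIso F' Y X ρ ∧ IsMap E Y ρ := by
    intro Y hY hAY
    have hYM : Y ≤ NK S A K := (isConj_le hY).1
    have hYcard : Nat.card Y = n := by
      obtain ⟨f, hf⟩ := isConj_iff.1 hY
      rw [← hf.card_eq, hXcard]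
    rcases hYM.lt_or_eq with hlt | heq
    · obtain ⟨ρ, hρ, himg, -⟩ := exists_normalizer_map hMp
        (fullyAutomized_of_fullyNormalized hMp hsat hXfn) (receptive_of_fullyNormalized hMp hsat hXfn) hY
      have hYN : Y ≤ normalizerIn (NK S A K) Y := le_normalizerIn hYM
      refine ⟨ρ, ⟨hρ.mono hYN, himg⟩, ?_⟩
      obtain ⟨-, -, f', hf', e, -⟩ := isMap_kSys.1 hρ
      have hlt' : n < Nat.card ↥(normalizerIn (NK S A K) Y) := by
        rw [← hYcard]
        have := finite_of_le (S := NK S A K) (P := normalizerIn (NK S A K) Y) inf_le_left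
        refine lt_of_le_of_ne (Subgroup.card_le_of_le hYN) fun he =>
          (lt_normalizerIn hMp le_rfl hlt).ne (eq_of_le_of_card inf_le_left hYN he.ge)
      exact ((big _ _ (hf'.mono le_sup_left) hlt').mono hYN).congr fun x hx => e x (hYN hx)
    · refine ⟨fun x => x, ?_, IsMap.id (hYM.trans (NK_le S A K))⟩
      have : X = Y := by
        rw [heq]
        exact eq_of_le_of_card le_rfl (isConj_le hY).2 (by rw [← heq, hYcard, hXcard])
      rw [this]
      exact IsIso.refl hYM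
  obtain ⟨ρ₁, hρ₁, hρ₁E⟩ := hto X₁ hconj hAX
  obtain ⟨ρ₂, hρ₂, hρ₂E⟩ := hto X₂ (isConj_trans (isConj_symm (isConj_iff.2 ⟨δ, hδ'⟩)) hconj) hAX2
  have hρ₁E' : IsIso E X₁ X ρ₁ := ⟨hρ₁E, hρ₁.2⟩
  obtain ⟨ρ₁', hρ₁', hl, hr⟩ := hρ₁E'.symm
  obtain ⟨ρ₁'', hρ₁'', hl', -⟩ := hρ₁.symm
  have heq : ∀ x ∈ X, ρ₁' x = ρ₁'' x := fun x hx => by
    obtain ⟨y, hy, rfl⟩ := hρ₁.exists_eq hx
    rw [hl y hy, hl' y hy]
  have hβ : IsIso F' X X (fun x => ρ₂ (δ (ρ₁' x))) :=
    ((hρ₁''.congr fun x hx => (heq x hx).symm).trans hδ').trans hρ₂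
  obtain ⟨β, hβm, eβ⟩ := exists_aut_of_isIso hβ
  have eβ' : ∀ x ∈ X, autFn β x = ρ₂ (δ (ρ₁' x)) := fun x hx => (autFn_apply β hx).trans (eβ ⟨x, hx⟩)
  -- make it fix `A`
  obtain ⟨-, -, f', hf', e', hon⟩ := isMap_kSys.1 ((mem_autGroup_iff (hXfn.1)).1 hβm)
  obtain ⟨k, hk, ek⟩ := hon
  obtain ⟨x₁, hx₁, ex⟩ := mem_autInducedBy_iff.1 hk
  -- the element of `X` inducing the same automorphism of `A`
  obtain ⟨x₀, hx₀, hx₀A⟩ : ∃ x₀ ∈ X, ∀ a ∈ A, x₀ * a * x₀⁻¹ = autFn β a := by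
    obtain ⟨g, hg⟩ := isConj_iff.1 hconj
    obtain ⟨-, -, g', hg', eg, hong⟩ := isMap_kSys.1 hg.1
    obtain ⟨l, hl2, el⟩ := hong
    obtain ⟨y, hy, ey⟩ := mem_autInducedBy_iff.1 hl2
    have hgA : ∀ a : A, g a = y * a * y⁻¹ := fun a => by
      rw [← eg a (hAX a.2), ← el a]
      exact ey a
    refine ⟨g (y⁻¹ * x₁ * y), hg.mem (X₁.mul_mem (X₁.mul_mem (X₁.inv_mem hy) hx₁) hy), fun a ha => ?_⟩
    obtain ⟨b, hb, rfl⟩ : ∃ b ∈ A, g b = a := by
      refine ⟨y⁻¹ * a * y, normalizerIn_conj_inv (hX hy) ha, ?_⟩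
      rw [hgA ⟨_, normalizerIn_conj_inv (hX hy) ha⟩]
      group
    have hyx : y⁻¹ * x₁ * y ∈ X₁ := X₁.mul_mem (X₁.mul_mem (X₁.inv_mem hy) hx₁) hy
    rw [← hg.1.map_conj hyx (hAX hb), hgA ⟨_, normalizerIn_conj (hX hyx) hb⟩]
    have hgb : g b ∈ A := by
      rw [hgA ⟨b, hb⟩]
      exact normalizerIn_conj (hX hy) hb
    rw [← e' (g b) (hAX' hgb), ← ek ⟨g b, hgb⟩, ex ⟨g b, hgb⟩]
    change _ = x₁ * g b * x₁⁻¹
    rw [hgA ⟨b, hb⟩]
    group
  have hxm : IsMap F X (fun x => x₀⁻¹ * autFn β x * x₀) := by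
    have h1 : IsMap F X (autFn β) := (hf'.mono le_sup_left).congr e'
    have h2 := h1.comp (IsMap.conj (F := F) (hXfn.1.trans (NK_le S A K))
      (S.inv_mem ((hXfn.1.trans (NK_le S A K)) hx₀))) fun x hx => autFn_mem β hx
    exact h2.congr fun x _ => by rw [inv_inv]
  have hXS : X ≤ S := hXfn.1.trans (NK_le S A K)
  obtain ⟨γ, hγ, eγ⟩ := exists_aut_of_isIso (F := F) (⟨hxm, eq_of_le_of_card hXS
    (hxm.img_le le_rfl fun x hx => X.mul_mem (X.mul_mem (X.inv_mem hx₀) (autFn_mem β hx)) hx₀)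
      (hxm.card_img le_rfl).ge⟩ : IsIso F X X _)
  have hγA : ∀ a ∈ A, autFn γ a = a := fun a ha => by
    rw [autFn_apply γ (hAX' ha), eγ ⟨a, hAX' ha⟩]
    show x₀⁻¹ * autFn β a * x₀ = a
    rw [← hx₀A a ha]
    group
  have hcX : F.IsCentric X := by
    obtain ⟨f, hf⟩ := isConj_iff.1 hconj
    obtain ⟨-, -, f'', hf'', e'', -⟩ := isMap_kSys.1 hf.1
    have hF1 : F.IsConj X₁ X :=
      isConj_iff.2 ⟨f, (hf''.mono le_sup_left).congr e'', hf.2⟩
    exact ⟨hXS, fun Q hQ => hc.2 Q (isConj_trans hF1 hQ)⟩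
  have hγE := isMap_aut_step hS hE hF hEF hK hKA hAX' hXfn.1 hXfn hcX (hXcard.symm ▸ big) hC hγ hγA
  have hβE : IsMap E X (autFn β) := by
    refine ((hγE.comp (IsMap.conj (F := E) hXS (hXS hx₀)) fun x hx => autFn_mem γ hx)).congr fun x hx => ?_
    show x₀ * autFn γ x * x₀⁻¹ = autFn β x
    rw [autFn_apply γ hx, eγ ⟨x, hx⟩]
    group
  have hρ₂E' : IsIso E X₂ X ρ₂ := ⟨hρ₂E, hρ₂.2⟩
  obtain ⟨ρ₂', hρ₂', hl2', -⟩ := hρ₂E'.symm
  refine ((hρ₁E.comp hβE fun x hx => hρ₁E'.mem hx).comp hρ₂'.1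
    fun x hx => autFn_mem β (hρ₁E'.mem hx)).congr fun x hx => ?_
  show ρ₂' (autFn β (ρ₁ x)) = δ x
  rw [eβ' _ (hρ₁E'.mem hx), hl x hx, hl2' _ (hδ.mem hx)]

/-- Small abelian subgroups of the hyperfocal subgroup control fusion. -/
theorem isMap_of_agree (p : ℕ) [Fact p.Prime] : ∀ (m : ℕ), ∀ {Ω : Type u} [Group Ω] {S : Subgroup Ω}
    [Finite S] {E F : FusionSystem S}, (graphs F).ncard ≤ m → IsPGroup p S → E.IsSaturated p →
    F.IsSaturated p → E.IsSubsystemOf F → Agree p E F → ∀ P f, IsMap F P f → IsMap E P f := by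
  intro m
  induction m using Nat.strong_induction_on with
  | _ m ihm =>
  intro Ω _ S _ E F hm hS hE hF hEF hag P₀ f₀ hf₀
  refine alperin_induction hS hF (fun P f => IsMap E P f) (fun P f g _ h e => h.congr e)
    (fun P P' f _ h hE' => hE'.mono h) (fun P P' f g _ _ hmem h1 h2 => h1.comp h2 hmem) ?_ hf₀
  intro R hR hc _ α hα big
  have hRS := hR.1
  have := finite_mulAut hRS
  -- it is enough to treat automorphisms of order prime to `p`
  suffices key : ∀ α ∈ F.autGroup R, (orderOf α).Coprime p → IsMap E R (autFn α) by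
    obtain ⟨-, T, hT⟩ := fullyAutomized_of_fullyNormalized hS hF hR
    have htop : IsSylowIn p (T : Subgroup (F.autGroup R)) ⊤ :=
      ⟨le_top, T.isPGroup', fun C h1 _ h3 => T.is_maximal' h3 h1⟩
    have hsup := htop.sup_pResidual
    have hle : (⊤ : Subgroup (F.autGroup R)) ≤ (E.autGroup R).subgroupOf (F.autGroup R) := by
      rw [← hsup]
      refine sup_le ?_ ((Subgroup.closure_le _).2 fun g hg => ?_)
      · rw [hT]
        exact fun g hg => autInducedBy_le_autGroup E le_rfl hRS hg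
      · refine Subgroup.mem_subgroupOf.2 ((mem_autGroup_iff hRS).2 (key g g.2 ?_))
        rw [Subgroup.orderOf_coe]
        exact hg
    exact (mem_autGroup_iff hRS).1 (hle (Subgroup.mem_top ⟨α, hα⟩))
  intro α hα hcop
  have := finite_of_le hRS
  obtain ⟨H, hH⟩ := PGroup.exists_critical (hS.to_le hRS)
  haveI := hH.char
  have hhyp : F.StronglyClosed (F.hyperfocalSubgroup p) := Cfsg.Agent.S5124.result p hS F hF
  by_cases hall : ∀ x ∈ H, (x : Ω) ∈ F.hyperfocalSubgroup p → x ^ qexp p = 1 → Fixed F (x : Ω)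
  · have h1 : α = 1 := by
      refine aut_eq_one_of_fix_small (hS.to_le hRS) hcop hH ((F.hyperfocalSubgroup p).subgroupOf R)
        (fun x => Subgroup.mem_subgroupOf.2 ?_) fun x hx hxn hxq => ?_
      · have := inv_mul_autFn_mem_hyperfocal hRS hα (mem_pResidual_of_coprime hα hcop) x.2
        rwa [autFn_apply α x.2] at this
      · obtain ⟨g, hg, e, hgx⟩ := hall x hx hxn hxq R _ (isIso_autFn hRS hα).1
        refine Subtype.ext ((autFn_apply α x.2).symm.trans ?_)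
        rw [← e x x.2, hgx]
    subst h1
    exact (IsMap.id hRS).congr fun x hx => (autFn_one hx).symm
  simp only [not_forall] at hall
  obtain ⟨x₀, hx₀H, hx₀n, hx₀q, hx₀F⟩ := hall
  -- a normal small subgroup containing a moved element
  let D : Subgroup R :=
    { carrier := {x | x ∈ H ∧ (x : Ω) ∈ F.hyperfocalSubgroup p ∧ x ^ qexp p = 1}
      one_mem' := ⟨one_mem _, one_mem _, one_pow _⟩
      mul_mem' := fun ⟨a1, a2, a3⟩ ⟨b1, b2, b3⟩ =>
        ⟨mul_mem a1 b1, mul_mem a2 b2, by rw [mul_pow_qexp hH a1 b1, a3, b3, one_mul]⟩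
      inv_mem' := fun {a} ⟨a1, a2, a3⟩ => ⟨inv_mem a1, inv_mem a2, by rw [inv_pow, a3, inv_one]⟩ }
  let A₁ : Subgroup R := (D ⊓ Subgroup.centralizer (H : Set R)) ⊔ Subgroup.zpowers x₀
  have hA1D : A₁ ≤ D := sup_le inf_le_left (Subgroup.zpowers_le.2 ⟨hx₀H, hx₀n, hx₀q⟩)
  have hA1c : ∀ a ∈ A₁, ∀ b ∈ A₁, a * b = b * a := by
    intro a ha b hb
    have hle : A₁ ≤ Subgroup.centralizer ((A₁ : Subgroup R) : Set R) := by
      refine sup_le (fun y hy => ?_) (Subgroup.zpowers_le.2 ?_)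
      · refine Subgroup.mem_centralizer_iff.2 fun c hc => ?_
        exact Subgroup.mem_centralizer_iff.1 hy.2 c (hA1D hc).1
      · have : A₁ ≤ Subgroup.centralizer {x₀} := sup_le
          (fun y hy => Subgroup.mem_centralizer_iff.2 fun c hc => by
            rw [Set.mem_singleton_iff] at hc
            subst hc
            exact Subgroup.mem_centralizer_iff.1 hy.2 _ hx₀H)
          (Subgroup.zpowers_le.2 (Subgroup.mem_centralizer_iff.2 fun c hc => by
            rw [Set.mem_singleton_iff] at hc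
            subst hc
            rfl))
        exact Subgroup.mem_centralizer_iff.2 fun c hc =>
          ((Subgroup.mem_centralizer_iff.1 (this hc)) x₀ rfl).symm
    exact (Subgroup.mem_centralizer_iff.1 (hle hb) a ha)
  have hA1n : ∀ r : R, ∀ a ∈ A₁, r * a * r⁻¹ ∈ A₁ := by
    intro r a ha
    obtain ⟨a1, a2, a3⟩ := hA1D ha
    have hconjD : r * a * r⁻¹ ∈ D := ⟨(inferInstance : H.Normal).conj_mem a a1 r,
      Fusion.conj_mem_of_stronglyClosed hhyp (hRS r.2) a2,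
      by rw [conj_pow, a3, mul_one, mul_inv_cancel]⟩
    have hcomm : a⁻¹ * (r * a * r⁻¹) ∈ D ⊓ Subgroup.centralizer (H : Set R) := by
      refine ⟨D.mul_mem (D.inv_mem ⟨a1, a2, a3⟩) hconjD, ?_⟩
      have h1 := (hH.comm_mem a⁻¹ (inv_mem a1) r).2
      simpa [commutatorElement_def, mul_assoc] using h1
    have := A₁.mul_mem ha ((le_sup_left : _ ≤ A₁) hcomm)
    rwa [mul_inv_cancel_left] at this
  let A : Subgroup Ω := A₁.map R.subtype
  have hAR : A ≤ R := Subgroup.map_subtype_le A₁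
  have hAsm : Small p A := by
    constructor
    · rintro _ ⟨a, ha, rfl⟩ _ ⟨b, hb, rfl⟩
      exact congrArg Subtype.val (hA1c a ha b hb)
    · rintro _ ⟨a, ha, rfl⟩
      exact congrArg Subtype.val (hA1D ha).2.2
  have hAh : A ≤ F.hyperfocalSubgroup p := by
    rintro _ ⟨a, ha, rfl⟩
    exact (hA1D ha).2.1
  have hx₀A : (x₀ : Ω) ∈ A := ⟨x₀, Subgroup.mem_sup_right (Subgroup.mem_zpowers x₀), rfl⟩
  have hRA : R ≤ normalizerIn S A := by
    intro r hr
    have := finite_of_le (hAR.trans hRS)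
    refine mem_normalizerIn_of_conj (hRS hr) ?_
    rintro _ ⟨a, ha, rfl⟩
    exact ⟨_, hA1n ⟨r, hr⟩ a ha, rfl⟩
  -- transport to a fully normalized subgroup
  obtain ⟨Af, hAconj, hAf⟩ := FusionStable.exists_fullyNormalized_conj F (hAR.trans hRS)
  obtain ⟨u, hu⟩ := isConj_iff.1 hAconj
  have huh : ∀ a ∈ A, u a ∈ F.hyperfocalSubgroup p := fun a ha =>
    (stronglyClosed_iff.1 hhyp).2 A u hu.1 a ha (hAh ha)
  have huE : IsIso E A Af u := ⟨hag A hAh hAsm u hu.1 huh, hu.2⟩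
  have hAfE : E.IsFullyNormalized Af := ⟨hAf.1, fun Q hQ => hAf.2 Q (by
    obtain ⟨f, hf⟩ := isConj_iff.1 hQ
    exact isConj_iff.2 ⟨f, isMap_of_sub hEF hf.1, hf.2⟩)⟩
  have hAfh : Af ≤ F.hyperfocalSubgroup p := hu.2 ▸ hu.1.img_le le_rfl huh
  have hAfs : Small p Af := hu.2 ▸ small_img hAsm hu.1 le_rfl
  have hαm := (isIso_autFn hRS hα).1
  have hA' : F.IsConj A (img (autFn α) A) := isConj_iff.2 ⟨_, hαm.isIso_of_mono hAR⟩
  have hA'E : E.IsConj (img (autFn α) A) Af := by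
    have hA'F : F.IsConj (img (autFn α) A) Af := isConj_trans (isConj_symm hA') hAconj
    obtain ⟨v, hv⟩ := isConj_iff.1 hA'F
    have hA'h : img (autFn α) A ≤ F.hyperfocalSubgroup p :=
      hαm.img_le hAR fun a ha => (stronglyClosed_iff.1 hhyp).2 R _ hαm a (hAR ha) (hAh ha)
    exact isConj_iff.2 ⟨v, hag _ hA'h (small_img hAsm hαm hAR) v hv.1
      (fun a ha => hAfh (hv.mem ha)), hv.2⟩
  have hEA := fullyAutomized_of_fullyNormalized hS hE hAfE
  have hER := receptive_of_fullyNormalized hS hE hAfE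
  obtain ⟨f₁, hf₁, hf₁A, hf₁N⟩ := exists_normalizer_map hS hEA hER (isConj_iff.2 ⟨u, huE⟩)
  obtain ⟨f₂, hf₂, hf₂A, hf₂N⟩ := exists_normalizer_map hS hEA hER hA'E
  have hRA' : R ≤ normalizerIn S (img (autFn α) A) := by
    intro r hr
    obtain ⟨s, hs, rfl⟩ := (isIso_autFn hRS hα).exists_eq hr
    exact map_normalizerIn hαm hAR rfl hs (hRA hs)
  have hf₁R := hf₁.mono hRA
  have hf₂R := hf₂.mono hRA'
  obtain ⟨g₁, hg₁, hg₁l, hg₁r⟩ := hf₁R.isIso.symm
  -- the map between the images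
  have hφm : IsMap F (img f₁ R) (fun y => f₂ (autFn α (g₁ y))) :=
    ((isMap_of_sub hEF hg₁.1).comp hαm fun y hy => hg₁.mem hy).comp (isMap_of_sub hEF hf₂R)
      fun y hy => autFn_mem α (hg₁.mem hy)
  set φ := fun y => f₂ (autFn α (g₁ y)) with hφ
  have hAX1 : Af ≤ img f₁ R := by
    rw [← hf₁A]
    exact hf₁R.img_le hAR fun a ha => hf₁R.mem_img (hAR ha)
  have hX1N : img f₁ R ≤ normalizerIn S Af := hf₁R.img_le le_rfl fun r hr => hf₁N r (hRA hr)
  have hφA : ∀ a ∈ Af, φ a ∈ Af := by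
    intro a ha
    obtain ⟨b, hb, rfl⟩ := (hf₁R.mem_img_iff hAR).1 (hf₁A.symm ▸ ha : a ∈ img f₁ A)
    rw [hφ]
    show f₂ (autFn α (g₁ (f₁ b))) ∈ Af
    rw [hg₁l b (hAR hb), ← hf₂A]
    exact (hf₂.mem_img_iff (le_normalizerIn ((hαm.isIso_of_mono hAR).le_right))).2
      ⟨_, (hαm.mem_img_iff hAR).2 ⟨b, hb, rfl⟩, rfl⟩
  have hgE : IsMap E Af φ := hag Af hAfh hAfs φ (hφm.mono hAX1) fun a ha => hAfh (hφA a ha)
  have hgiso : IsIso E Af Af φ :=
    ⟨hgE, eq_of_le_of_card hAf.1 (hgE.img_le le_rfl hφA) (hgE.card_img le_rfl).ge⟩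
  obtain ⟨e, he, hee⟩ := (isReceptive_iff.1 hER).2 Af φ hgiso
  have heX : IsMap E (img f₁ R) e := he.mono fun x hx => mem_Nx.2 ⟨hX1N hx, φ x, hφm.mem hx,
    fun a ha => hφm.map_conj hx (hAX1 ha)⟩
  obtain ⟨e', he', he'l, he'r⟩ := heX.isIso.symm
  have hδm : IsMap F (img e (img f₁ R)) (fun y => φ (e' y)) :=
    (isMap_of_sub hEF he'.1).comp hφm fun y hy => he'.mem hy
  have hAX3 : Af ≤ img e (img f₁ R) := fun a ha => by
    obtain ⟨b, hb, rfl⟩ := hgiso.exists_eq ha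
    exact hee b hb ▸ heX.mem_img (hAX1 hb)
  have hfixA : ∀ a ∈ Af, φ (e' a) = a := fun a ha => by
    obtain ⟨b, hb, rfl⟩ := hgiso.exists_eq ha
    rw [show φ b = e b from (hee b hb).symm, he'l b (hAX1 hb), hee b hb]
  have hcard3 : Nat.card (img e (img f₁ R)) = Nat.card R := by
    rw [heX.card_img le_rfl, hf₁R.card_img le_rfl]
  have hcX3 : F.IsCentric (img e (img f₁ R)) := by
    have h1 : F.IsConj R (img e (img f₁ R)) :=
      isConj_trans (isConj_iff.2 ⟨f₁, (isMap_of_sub hEF hf₁R).isIso⟩)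
        (isConj_iff.2 ⟨e, (isMap_of_sub hEF heX).isIso⟩)
    exact ⟨(isMap_of_sub hEF heX).img_le_S, fun Q hQ => hc.2 Q (isConj_trans h1 hQ)⟩
  have hX3N : img e (img f₁ R) ≤ normalizerIn S Af := heX.img_le le_rfl fun x hx =>
    map_normalizerIn heX hAX1 (by rw [img_congr hee]; exact hgiso.2) hx (hX1N hx)
  -- the centralizer systems
  have hCsys : ∀ P f, IsMap F P f →
      (∃ f', IsMap F (P ⊔ Af) f' ∧ (∀ x ∈ P, f' x = f x) ∧ ∀ a ∈ Af, f' a = a) →
      P ≤ centralizerIn S Af → IsMap E P f := by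
    rintro P f hf ⟨f', hf', ef, hfa⟩ hP
    obtain ⟨CF, hCF⟩ := exists_centralizerSystem (F := F) hAf.1
    obtain ⟨CE, hCE⟩ := exists_centralizerSystem (F := E) hAf.1
    have hfin := finite_of_le (inf_le_left : centralizerIn S Af ≤ S)
    haveI : Finite (centralizerIn S Af) := hfin
    have hCFsub : ∀ {P g}, IsMap CF P g → IsMap F P g := fun {P g} hg => by
      obtain ⟨-, -, g', hg', eg, -⟩ := (isMap_centralizer_iff hAf.1 hCF).1 hg
      exact (hg'.mono le_sup_left).congr eg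
    have hlt : (graphs CF).ncard < (graphs F).ncard := by
      refine Set.ncard_lt_ncard (Set.ssubset_iff_subset_ne.2 ⟨?_, fun he => ?_⟩) (graphs_finite F)
      · rintro G ⟨P, g, hg, rfl⟩
        exact ⟨P, g, hCFsub hg, rfl⟩
      have hfix' : ∀ a ∈ Af, Fixed F a := fun a ha P g hg => by
        obtain ⟨-, -, g', hg', eg, hga⟩ := (isMap_centralizer_iff hAf.1 hCF).1
          (isMap_of_graph (f := g) (P := P) (D := CF) (by rw [he]; exact ⟨P, g, hg, rfl⟩))
        exact ⟨g', hg'.mono (sup_le_sup_left (Subgroup.zpowers_le.2 ha) _), eg, hga a ha⟩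
      refine hx₀F ?_
      intro P g hg
      -- `u` fixes the elements of `A`
      obtain ⟨-, -, u', hu', eu, hua⟩ := (isMap_centralizer_iff hAf.1 hCF).1
        (isMap_of_graph (f := u) (P := A) (D := CF) (by rw [he]; exact ⟨A, u, hu.1, rfl⟩))
      have hux : u' (u x₀) = u x₀ := hua _ (hu.mem hx₀A)
      have hxu : (x₀ : Ω) = u x₀ := by
        refine hu'.inj (Subgroup.mem_sup_left hx₀A) (Subgroup.mem_sup_right (hu.mem hx₀A)) ?_
        rw [eu _ hx₀A, hux]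
      rw [hxu]
      exact hfix' _ (hu.mem hx₀A) P g hg
    have hCFh : CF.hyperfocalSubgroup p ≤ F.hyperfocalSubgroup p := by
      refine (Subgroup.closure_le _).2 ?_
      rintro _ ⟨Q, β, x, hQ, hβ, rfl⟩
      have hle : CF.autGroup Q ≤ F.autGroup Q := fun b hb =>
        (mem_autGroup_iff (hQ.trans inf_le_left)).2 (hCFsub ((mem_autGroup_iff hQ).1 hb))
      have hres : Cfsg.pResidual p (CF.autGroup Q) ≤
          (Cfsg.pResidual p (F.autGroup Q)).comap (Subgroup.inclusion hle) := by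
        refine (Subgroup.closure_le _).2 fun b hb => Subgroup.subset_closure ?_
        show (orderOf (Subgroup.inclusion hle b)).Coprime p
        rwa [orderOf_injective _ (Subgroup.inclusion_injective hle)]
      exact Subgroup.subset_closure ⟨Q, Subgroup.inclusion hle β, x, hQ.trans inf_le_left, hres hβ, rfl⟩
    have hsub : CE.IsSubsystemOf CF := by
      intro Q φ hφ
      obtain ⟨h1, h2, g', hg', eg, hga⟩ := (isMap_centralizer_iff hAf.1 hCE).1 (isMap_toFn hφ)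
      exact mem_of_isMap ((isMap_centralizer_iff hAf.1 hCF).2 ⟨h1, h2, g', isMap_of_sub hEF hg', eg, hga⟩)
        fun x => (toFn_coe φ x).symm
    have hagC : Agree p CE CF := by
      intro B hB hBs g hg hgh
      obtain ⟨h1, h2, g', hg', eg, hga⟩ := (isMap_centralizer_iff hAf.1 hCF).1 hg
      refine (isMap_centralizer_iff hAf.1 hCE).2 ⟨h1, h2, g', ?_, eg, hga⟩
      refine hag _ (sup_le (hB.trans hCFh) hAfh) (small_sup hBs hAfs fun b hb a ha =>
        (mem_centralizerIn.1 (h1 hb)).2 a ha) g' hg' fun x hx => ?_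
      exact sup_mapsTo hg' le_sup_left le_sup_right (fun b hb => by rw [eg b hb]; exact hCFh (hgh b hb))
        (fun a ha => by rw [hga a ha]; exact hAfh ha) x hx
    have hCEs : CE.IsSaturated p :=
      Cfsg.Agent.S5099.result p hS E hE Af (fullyCentralized_of_fullyNormalized hS hE hAfE) CE hCE
    have hCFs : CF.IsSaturated p :=
      Cfsg.Agent.S5099.result p hS F hF Af (fullyCentralized_of_fullyNormalized hS hF hAf) CF hCF
    have hfmem : ∀ x ∈ P, f x ∈ centralizerIn S Af := fun x hx => by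
      refine mem_centralizerIn.2 ⟨hf.mem hx, fun a ha => ?_⟩
      rw [← ef x hx, ← hfa a ha, ← hf'.map_mul (Subgroup.mem_sup_left hx) (Subgroup.mem_sup_right ha),
        ← hf'.map_mul (Subgroup.mem_sup_right ha) (Subgroup.mem_sup_left hx), (mem_centralizerIn.1 (hP hx)).2 a ha]
    have hfC : IsMap CF P f := (isMap_centralizer_iff hAf.1 hCF).2 ⟨hP, hfmem, f', hf', ef, hfa⟩
    obtain ⟨-, -, g', hg', eg, -⟩ := (isMap_centralizer_iff hAf.1 hCE).1
      (ihm _ (lt_of_lt_of_le hlt hm) le_rfl (hS.to_le inf_le_left) hCEs hCFs hsub hagC P f hfC)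
    exact (hg'.mono le_sup_left).congr eg
  have hδE := isMap_fix_step hS hE hF hEF hAf
    ⟨⟨fun a b => Subtype.ext (hAfs.comm a a.2 b b.2)⟩⟩ (n := Nat.card R)
    (fun P f hf h => big P f hf h) hCsys hAX3 hX3N hcard3 hcX3 hδm.isIso hfixA
  have hφE : IsMap E (img f₁ R) φ :=
    (heX.comp hδE fun x hx => heX.mem_img hx).congr fun x hx => by
      show φ (e' (e x)) = φ x
      rw [he'l x hx]
  obtain ⟨g₂, hg₂, hg₂l, -⟩ := hf₂R.isIso.symm
  refine ((hf₁R.comp hφE fun x hx => hf₁R.mem_img hx).comp hg₂.1 fun x hx => ?_).congr fun x hx => ?_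
  · show f₂ (autFn α (g₁ (f₁ x))) ∈ img f₂ R
    rw [hg₁l x hx]
    exact hf₂R.mem_img (autFn_mem α hx)
  · show g₂ (f₂ (autFn α (g₁ (f₁ x)))) = autFn α x
    rw [hg₁l x hx, hg₂l _ (autFn_mem α hx)]

end Cfsg.Agent.FusionSmallControl
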